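import Groth.Agent.Lib.Helper5.Glue.H
import Groth.Agent.Lib.Helper5.Nrm.E
import Groth.Agent.Lib.Helper5.Nrm.I
import Groth.Agent.Lib.Lead.QC.PullInv
import Groth.Agent.Lib.Lead.QC.TensorPow
import Groth.Agent.Lib.Lead.QC.InvBasis

/-! # An invertible module trivialised by a finite locally free cover of degree `d` is `d`-torsion. -/

set_option autoImplicit false
universe u
open CategoryTheory Limits AlgebraicGeometry TopologicalSpace Opposite

namespace Groth.Agent.LD.NormTriv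

open Groth.Agent.LD Groth.Agent.LD.QC Groth.Agent.H5.Glue

variable {X X' : Scheme.{u}}

/-- a trivialisation gives a global basis. -/
lemma isBasisOver_top_of_iso {M : X.Modules} (φ : M ≅ Coh.structureModule X) :
    IsBasisOver M ⊤ (SecTwist.val φ.inv ⊤) :=
  (le_genLocus_iff_isBasisOver M φ.inv ⊤).mp
    ((le_genLocus_iff M φ.inv ⊤).mpr (fun V _ => app_bijective_of_isIso φ.inv V))

theorem main (f : X' ⟶ X) (d : ℕ) (hf : Mor2.IsFinLocFreeOfDeg d f)
    (L : X.Modules) (hL : PicF.IsInvertible L)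
    (htriv : Nonempty ((Scheme.Modules.pullback f).obj L ≅ Coh.structureModule X')) :
    Nonempty (CohB1.tensorPow L d ≅ Coh.structureModule X) := by
  classical
  rcases Nat.eq_zero_or_pos d with hd0 | hdpos
  · subst hd0
    exact ⟨Iso.refl _⟩
  obtain ⟨N⟩ := H5.NrmFree.main f d hdpos hf
  obtain ⟨φ⟩ := htriv
  haveI : L.IsQuasicoherent := qc_of_isInvertible L hL
  choose W b hxW hb using (isInvertible_iff_exists_isBasisOver L).mp hL
  have hcov : iSup W = ⊤ := by
    rw [eq_top_iff]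
    intro x _
    exact Opens.mem_iSup.mpr ⟨x, hxW x⟩
  have he₀ := isBasisOver_top_of_iso φ
  have hex : ∀ i : X, ∃ a : Γ(X', f ⁻¹ᵁ W i), IsUnit a ∧
      pbSec f L (le_refl (f ⁻¹ᵁ W i)) (b i) =
        a • mres ((Scheme.Modules.pullback f).obj L) (le_top : f ⁻¹ᵁ W i ≤ ⊤)
          (SecTwist.val φ.inv ⊤) := by
    intro i
    have h1 := he₀.mono (le_top : f ⁻¹ᵁ W i ≤ ⊤)
    obtain ⟨a, ha⟩ := h1.exists_coord (pbSec f L (le_refl (f ⁻¹ᵁ W i)) (b i))
    refine ⟨a, ?_, ha⟩
    rw [← h1.smul_iff a]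
    have h2 := (hb i).pullback f (le_refl (f ⁻¹ᵁ W i))
    rw [ha] at h2
    exact h2
  choose a ha_unit ha using hex
  have hrel : ∀ i j : X,
      res (show f ⁻¹ᵁ (W i ⊓ W j) ≤ f ⁻¹ᵁ W i from f.preimage_mono inf_le_left) (a i) =
        f.app (W i ⊓ W j) (transition hb i j) *
          res (show f ⁻¹ᵁ (W i ⊓ W j) ≤ f ⁻¹ᵁ W j from f.preimage_mono inf_le_right) (a j) := by
    intro i j
    have hle1 : f ⁻¹ᵁ (W i ⊓ W j) ≤ f ⁻¹ᵁ W i := f.preimage_mono inf_le_left
    have hle2 : f ⁻¹ᵁ (W i ⊓ W j) ≤ f ⁻¹ᵁ W j := f.preimage_mono inf_le_right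
    have hb0 := he₀.mono (le_top : f ⁻¹ᵁ (W i ⊓ W j) ≤ ⊤)
    apply hb0.coord_injective
    have h1 : pbSec f L (le_refl (f ⁻¹ᵁ (W i ⊓ W j)))
        (mres L (inf_le_left : W i ⊓ W j ≤ W i) (b i)) =
        res hle1 (a i) • mres ((Scheme.Modules.pullback f).obj L)
          (le_top : f ⁻¹ᵁ (W i ⊓ W j) ≤ ⊤) (SecTwist.val φ.inv ⊤) := by
      rw [pbSec_res f L (le_refl (f ⁻¹ᵁ W i)) (le_refl _) hle1 inf_le_left (b i), ha i]
      exact (mres_smul _ hle1 _ _).trans (congrArg _ (mres_mres _ _ _ _))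
    have h2 : pbSec f L (le_refl (f ⁻¹ᵁ (W i ⊓ W j)))
        (mres L (inf_le_right : W i ⊓ W j ≤ W j) (b j)) =
        res hle2 (a j) • mres ((Scheme.Modules.pullback f).obj L)
          (le_top : f ⁻¹ᵁ (W i ⊓ W j) ≤ ⊤) (SecTwist.val φ.inv ⊤) := by
      rw [pbSec_res f L (le_refl (f ⁻¹ᵁ W j)) (le_refl _) hle2 inf_le_right (b j), ha j]
      exact (mres_smul _ hle2 _ _).trans (congrArg _ (mres_mres _ _ _ _))
    have h3 := congrArg (pbSec f L (le_refl (f ⁻¹ᵁ (W i ⊓ W j)))) (transition_spec hb i j)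
    rw [pbSec_smul, h1, h2, smul_smul, Scheme.Hom.appLE_eq_app] at h3
    exact h3
  have hN : ∀ i j : X, res (inf_le_left : W i ⊓ W j ≤ W i) (N.norm (W i) (a i)) =
      transition hb i j ^ d * res (inf_le_right : W i ⊓ W j ≤ W j) (N.norm (W j) (a j)) := by
    intro i j
    rw [H5.NrmAmple.norm_res' N (inf_le_left : W i ⊓ W j ≤ W i) (a i),
      H5.NrmAmple.norm_res' N (inf_le_right : W i ⊓ W j ≤ W j) (a j)]
    have h := congrArg (N.norm (W i ⊓ W j)) (hrel i j)
    rw [map_mul, N.norm_app] at h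
    exact h
  have key : Nonempty (CohB1.tensorPow L d ≅ unitMod X) := by
    refine (nonempty_iso_iff_cohomologous hcov (CohB1.tensorPow L d) (unitMod X)
      (fun i => secPow (b i) d) (fun i => (1 : Γ(X, W i)))
      (fun i => (hb i).secPow d) (fun i => isBasisOver_one (W i))
      (fun i j => transition hb i j ^ d) (fun i j => 1) ?_ ?_).mpr
        ⟨fun i => ((ha_unit i).map (N.norm (W i))).unit, ?_⟩
    · intro i j
      have h1 : mres (CohB1.tensorPow L d) (inf_le_left : W i ⊓ W j ≤ W i) (secPow (b i) d) =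
          secPow (mres L (inf_le_left : W i ⊓ W j ≤ W i) (b i)) d := secPow_res _ _ _
      have h2 : mres (CohB1.tensorPow L d) (inf_le_right : W i ⊓ W j ≤ W j) (secPow (b j) d) =
          secPow (mres L (inf_le_right : W i ⊓ W j ≤ W j) (b j)) d := secPow_res _ _ _
      rw [h1, h2, transition_spec hb i j, secPow_smul]
    · intro i j
      rw [one_smul]
      exact (map_one (X.presheaf.map (homOfLE (inf_le_left : W i ⊓ W j ≤ W i)).op).hom).trans
        (map_one (X.presheaf.map (homOfLE (inf_le_right : W i ⊓ W j ≤ W j)).op).hom).symm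
    · intro i j
      simp only [IsUnit.unit_spec, one_mul]
      rw [hN i j, mul_comm]
  exact key

end Groth.Agent.LD.NormTriv
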